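import Cfsg.Agent.Lib.Helper35.BT.Defs

/-!
# Project BT (S2154, Borel–Tits), module [LEVI-WT] (helper72)

Elements of the Levi subgroup `L_J`, `J = Jof y`, preserve the `y`-weight: a non-zero entry at `(a, b)` has
`wt y a = wt y b`.  The needed part of [ROOT-B] (`om_eq_zero`) is proved here under a suffixed name.
-/

set_option autoImplicit false

namespace Cfsg.Agent.Lib.Helper72.BT

open Cfsg Cfsg.Lie Cfsg.Agent.Lib.Helper18 Cfsg.Agent.Lib.Helper61.ChevJ Cfsg.Agent.Lib.Helper35.BT Matrix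

universe u

variable {D : ChevalleyDatum}

/-- `⟨r, y⟩ = 0` for the roots of the subsystem on which `y` vanishes. -/
theorem om_eq_zero_h72 (X : JData.{u} D) (y : Y D) (r : ℕ) (hr : D.InRootSub (Jof y) r) :
    om X y r = 0 := by
  obtain ⟨hr1, hr2⟩ := (X.inRootSub_iff (Jof y) r).mp hr
  have hn := X.C.nroots_eq
  have hl := X.C.rank_eq
  unfold om
  apply Finset.sum_eq_zero
  intro k _
  by_cases hk : (k : ℕ) ∈ Jof y
  · obtain ⟨h, hy⟩ := hk
    have : (⟨(k : ℕ), h⟩ : Fin D.rank) = k := Fin.ext rfl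
    rw [this] at hy
    rw [hy, mul_zero]
  · have h0 : rv X r k = 0 := by
      unfold rv
      exact ((rcSignOK_spec X.C.T X.rcT X.hsign r (hn.symm ▸ hr1) k (hl.symm ▸ k.2)).1).mpr
        (hr2 k k.2 hk)
    rw [h0, Int.cast_zero, zero_mul]

section Mat

variable {F : Type u} [Field F] (X : JData.{u} D)

/-- Weight preserving matrices. -/
def IsWP (y : Y D) (M : Matrix D.Idx D.Idx F) : Prop := ∀ a b, M a b ≠ 0 → wt X y a = wt X y b

theorem isWP_one (y : Y D) : IsWP X y (1 : Matrix D.Idx D.Idx F) := by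
  intro a b h
  by_cases hab : a = b
  · rw [hab]
  · exact absurd (Matrix.one_apply_ne hab) h

theorem isWP_mul (y : Y D) (M N : Matrix D.Idx D.Idx F) (hM : IsWP X y M) (hN : IsWP X y N) :
    IsWP X y (M * N) := by
  intro a b h
  rw [Matrix.mul_apply] at h
  obtain ⟨c, -, hc⟩ := Finset.exists_ne_zero_of_sum_ne_zero h
  have h1 : M a c ≠ 0 := left_ne_zero_of_mul hc
  have h2 : N c b ≠ 0 := right_ne_zero_of_mul hc
  rw [hM a c h1, hN c b h2]

theorem isWP_diagonal (y : Y D) (d : D.Idx → F) : IsWP X y (Matrix.diagonal d) := by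
  intro a b h
  by_cases hab : a = b
  · rw [hab]
  · exact absurd (Matrix.diagonal_apply_ne d hab) h

/-- The group of the invertible weight preserving matrices. -/
def wpSubgroup (y : Y D) : Subgroup (GL D.Idx F) where
  carrier := {g | IsWP X y (g : Matrix D.Idx D.Idx F) ∧
    IsWP X y ((g⁻¹ : GL D.Idx F) : Matrix D.Idx D.Idx F)}
  mul_mem' := by
    rintro g h ⟨hg1, hg2⟩ ⟨hh1, hh2⟩
    refine ⟨?_, ?_⟩
    · rw [Units.val_mul]
      exact isWP_mul X y _ _ hg1 hh1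
    · rw [_root_.mul_inv_rev, Units.val_mul]
      exact isWP_mul X y _ _ hh2 hg2
  one_mem' := by
    refine ⟨?_, ?_⟩
    · rw [Units.val_one]
      exact isWP_one X y
    · rw [inv_one, Units.val_one]
      exact isWP_one X y
  inv_mem' := by
    rintro g ⟨hg1, hg2⟩
    exact ⟨hg2, by rw [inv_inv]; exact hg1⟩

theorem x_isWP (y : Y D) (r : ℕ) (hr : D.InRootSub (Jof y) r) (t : F) : IsWP X y (D.x F r t) := by
  intro a b h
  obtain ⟨m, -, hm⟩ := wt_entry X y r hr.1 t a b h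
  rw [hm, om_eq_zero_h72 X y r hr, mul_zero, add_zero]

theorem xG_mem_wp (hD : D ∈ [chevG2, chevB2, chevD4, chevF4, chevE6, chevE7, chevE8]) (y : Y D) (r : ℕ)
    (hr : D.InRootSub (Jof y) r) (t : F) : xG hD r t ∈ wpSubgroup (F := F) X y := by
  refine ⟨?_, ?_⟩
  · rw [coe_xG]
    exact x_isWP X y r hr t
  · rw [xG_inv, coe_xG]
    exact x_isWP X y r hr (-t)

theorem diagonal_le_wp (hD : D ∈ [chevG2, chevB2, chevD4, chevF4, chevE6, chevE7, chevE8]) (y : Y D) :
    D.diagonalSubgroup F ≤ wpSubgroup (F := F) X y := by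
  intro h hh
  refine ⟨?_, ?_⟩
  · obtain ⟨c, -, hc⟩ := Cfsg.Agent.S1034.mem_diagonalSubgroup_torus D hD h hh
    rw [hc]
    exact isWP_diagonal X y _
  · obtain ⟨c, -, hc⟩ := Cfsg.Agent.S1034.mem_diagonalSubgroup_torus D hD h⁻¹ (inv_mem hh)
    rw [hc]
    exact isWP_diagonal X y _

theorem levi_le_wp (hD : D ∈ [chevG2, chevB2, chevD4, chevF4, chevE6, chevE7, chevE8]) (y : Y D) :
    D.leviSubgroup F (Jof y) ≤ wpSubgroup (F := F) X y := by
  unfold ChevalleyDatum.leviSubgroup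
  refine sup_le (diagonal_le_wp X hD y) ?_
  rw [Subgroup.closure_le]
  rintro g ⟨r, t, hr, hg⟩
  rw [eq_xG hD g r t hg]
  exact xG_mem_wp X hD y r hr t

end Mat

end Cfsg.Agent.Lib.Helper72.BT

namespace Cfsg.Agent.Lib.Helper35.BT

open Cfsg Cfsg.Lie Cfsg.Agent.Lib.Helper18 Cfsg.Agent.Lib.Helper61.ChevJ Matrix

universe u

variable {D : ChevalleyDatum} {F : Type u} [Field F]

/-- [LEVI-WT] -/
theorem levi_wt (hD : D ∈ [chevG2, chevB2, chevD4, chevF4, chevE6, chevE7, chevE8]) (X : JData.{u} D) (y : Y D)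
    (l : GL D.Idx F) (hl : l ∈ D.leviSubgroup F (Jof y)) (a b : D.Idx)
    (h : (l : Matrix D.Idx D.Idx F) a b ≠ 0) : wt X y a = wt X y b :=
  (Cfsg.Agent.Lib.Helper72.BT.levi_le_wp X hD y hl).1 a b h

end Cfsg.Agent.Lib.Helper35.BT
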